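import Groth.Agent.H75.Extend.Morphisms
import Groth.Agent.Lib.SchDense.Factor
import Groth.Agent.H26.SectionExtend
import Mathlib.AlgebraicGeometry.Morphisms.Flat
import Mathlib.AlgebraicGeometry.SpreadingOut
import Mathlib.RingTheory.Flat.FaithfullyFlat.Algebra

/-!
# Descent of extensions across a schematically dense open

On an affine open of a locally Noetherian scheme a schematically dense open contains the non-vanishing
locus of a regular section. Morphisms defined off this locus descend along flat surjections.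
-/

universe u

open CategoryTheory CategoryTheory.Limits AlgebraicGeometry TopologicalSpace

namespace Groth.Agent.Lib.NeronDescent

variable {X : Scheme.{u}}

/-- A schematically dense open contains the non-vanishing locus of a regular section. -/
theorem exists_nzd_section [IsLocallyNoetherian X] {U : X.Opens} (hU : CInt.IsSchematicallyDense U)
    {W : X.Opens} (hW : IsAffineOpen W) :
    ∃ a : Γ(X, W), a ∈ nonZeroDivisors Γ(X, W) ∧ X.basicOpen a ≤ U := by
  have : IsNoetherianRing Γ(X, W) := IsLocallyNoetherian.component_noetherian ⟨W, hW⟩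
  let C : Set (PrimeSpectrum Γ(X, W)) := hW.fromSpec ⁻¹' (U : Set X)ᶜ
  have hC : IsClosed C := U.isOpen.isClosed_compl.preimage hW.fromSpec.continuous
  let J : Ideal Γ(X, W) := PrimeSpectrum.vanishingIdeal C
  have hJ : PrimeSpectrum.zeroLocus (J : Set Γ(X, W)) = C := by
    rw [PrimeSpectrum.zeroLocus_vanishingIdeal_eq_closure, hC.closure_eq]
  have hbasic : ∀ a ∈ J, X.basicOpen a ≤ U := by
    intro a ha x hx
    have hxW : x ∈ W := X.basicOpen_le a hx
    by_contra hxU
    letI := X.presheaf.algebra_section_stalk ⟨x, hxW⟩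
    haveI := hW.isLocalization_stalk ⟨x, hxW⟩
    have hp : (hW.primeIdealOf ⟨x, hxW⟩ : PrimeSpectrum Γ(X, W)) ∈ C := by
      change hW.fromSpec (hW.primeIdealOf ⟨x, hxW⟩) ∉ U
      rw [hW.fromSpec_primeIdealOf ⟨x, hxW⟩]
      exact hxU
    exact ((IsLocalization.AtPrime.isUnit_to_map_iff (X.presheaf.stalk x)
      (hW.primeIdealOf ⟨x, hxW⟩).asIdeal a).mp ((X.mem_basicOpen a x hxW).mp hx))
      ((PrimeSpectrum.mem_vanishingIdeal _ _).mp ha _ hp)
  by_cases h : ∃ a ∈ J, a ∈ nonZeroDivisors Γ(X, W)
  · obtain ⟨a, haJ, ha⟩ := h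
    exact ⟨a, ha, hbasic a haJ⟩
  simp only [not_exists, not_and] at h
  rcases subsingleton_or_nontrivial Γ(X, W) with hs | hs
  · exact absurd (mem_nonZeroDivisors_iff_right.mpr fun b _ => Subsingleton.elim b 0) (h 0 J.zero_mem)
  exfalso
  have hsub : (J : Set Γ(X, W)) ⊆ ⋃ p ∈ associatedPrimes Γ(X, W) Γ(X, W), (p : Set Γ(X, W)) := by
    rw [biUnion_associatedPrimes_eq_compl_nonZeroDivisors]
    intro a ha
    exact h a ha
  obtain ⟨p, hp, hJp⟩ := (Ideal.subset_union_prime_finite
    (associatedPrimes.finite Γ(X, W) Γ(X, W)) ⊥ ⊥ (fun p hp _ _ => hp.isPrime)).mp hsub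
  obtain ⟨hpp, t, ht⟩ := isAssociatedPrime_iff.mp hp
  have ht0 : ∀ a ∈ J, a * t = 0 := fun a ha => by
    have := hJp ha
    rw [ht, Submodule.mem_colon_singleton, Submodule.mem_bot, smul_eq_mul] at this
    exact this
  have hres : X.presheaf.map (homOfLE (inf_le_left : W ⊓ U ≤ W)).op t = 0 := by
    refine TopCat.Presheaf.section_ext X.sheaf _ _ 0 fun y hy => ?_
    change X.presheaf.germ _ y hy _ = X.presheaf.germ _ y hy 0
    rw [map_zero, TopCat.Presheaf.germ_res_apply]
    letI := X.presheaf.algebra_section_stalk ⟨y, hy.1⟩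
    haveI := hW.isLocalization_stalk ⟨y, hy.1⟩
    obtain ⟨a, haJ, ha⟩ : ∃ a ∈ J, a ∉ (hW.primeIdealOf ⟨y, hy.1⟩).asIdeal := by
      refine SetLike.not_le_iff_exists.mp fun hle => ?_
      have hmem : (hW.primeIdealOf ⟨y, hy.1⟩ : PrimeSpectrum Γ(X, W)) ∈
          PrimeSpectrum.zeroLocus (J : Set Γ(X, W)) := hle
      rw [hJ] at hmem
      change hW.fromSpec (hW.primeIdealOf ⟨y, hy.1⟩) ∉ U at hmem
      rw [hW.fromSpec_primeIdealOf ⟨y, hy.1⟩] at hmem
      exact hmem hy.2
    have hu : IsUnit (algebraMap Γ(X, W) (X.presheaf.stalk y) a) :=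
      IsLocalization.map_units _ (⟨a, ha⟩ : (hW.primeIdealOf ⟨y, hy.1⟩).asIdeal.primeCompl)
    refine hu.mul_right_eq_zero.mp ?_
    change algebraMap Γ(X, W) (X.presheaf.stalk y) a * algebraMap Γ(X, W) (X.presheaf.stalk y) t = 0
    rw [← map_mul, ht0 a haJ, map_zero]
  have htz : t = 0 := hU W (hres.trans (map_zero _).symm)
  exact hpp.ne_top (by rw [ht, htz]; exact (Ideal.eq_top_iff_one _).mpr (by simp [Submodule.mem_colon_singleton]))

theorem map_mem_nonZeroDivisors_of_flat {R S : Type*} [CommRing R] [CommRing S] (φ : R →+* S)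
    (hφ : φ.Flat) {a : R} (ha : a ∈ nonZeroDivisors R) : φ a ∈ nonZeroDivisors S := by
  let := φ.toAlgebra
  have : Module.Flat R S := hφ
  have h : IsSMulRegular S a :=
    Module.Flat.isSMulRegular_of_isRegular (isRegular_iff_mem_nonZeroDivisors.mpr ha)
  refine mem_nonZeroDivisors_iff_right.mpr fun z hz => h ?_
  change a • z = a • 0
  rw [smul_zero, Algebra.smul_def, mul_comm]
  exact hz

theorem germ_mem_nonZeroDivisors {W : X.Opens} (hW : IsAffineOpen W) {a : Γ(X, W)}
    (ha : a ∈ nonZeroDivisors Γ(X, W)) {x : X} (hx : x ∈ W) :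
    X.presheaf.germ W x hx a ∈ nonZeroDivisors (X.presheaf.stalk x) := by
  let := X.presheaf.algebra_section_stalk ⟨x, hx⟩
  have := hW.isLocalization_stalk ⟨x, hx⟩
  exact map_mem_nonZeroDivisors_of_flat _ (IsLocalization.flat (X.presheaf.stalk x)
    (hW.primeIdealOf ⟨x, hx⟩).asIdeal.primeCompl) ha

/-- A section with regular germs gives regular elements off its non-vanishing locus. -/
theorem hasReg_basicOpen {W : X.Opens} (b : Γ(X, W))
    (hb : ∀ x hx, X.presheaf.germ W x hx b ∈ nonZeroDivisors (X.presheaf.stalk x)) :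
    Groth.Agent.H75.Extend.HasReg (W.ι ⁻¹ᵁ X.basicOpen b) := by
  intro z hz
  let e := (W.stalkIso z).commRingCatIsoToRingEquiv
  refine ⟨e.symm (X.presheaf.germ W z.1 z.2 b), ?_, fun x hx => ?_⟩
  · rw [IsLocalRing.mem_maximalIdeal, mem_nonunits_iff, isUnit_map_iff]
    exact fun hu => hz ((X.mem_basicOpen b z.1 z.2).mpr hu)
  · have := congrArg e hx
    rw [map_mul, map_zero, RingEquiv.apply_symm_apply, mul_comm] at this
    exact (EmbeddingLike.map_eq_zero_iff (f := e)).mp ((hb z.1 z.2).2 _ this)

/-- Morphisms from an open subscheme are determined off the zero locus of a regular section. -/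
theorem eq_of_basicOpen {N S : Scheme.{u}} (pN : N ⟶ S) [IsSeparated pN] {W : X.Opens} (b : Γ(X, W))
    (hb : ∀ x hx, X.presheaf.germ W x hx b ∈ nonZeroDivisors (X.presheaf.stalk x))
    {T : X.Opens} (hT : T ≤ W) (f g : (T : Scheme.{u}) ⟶ N) (h : f ≫ pN = g ≫ pN)
    (he : (T.ι ⁻¹ᵁ X.basicOpen b).ι ≫ f = (T.ι ⁻¹ᵁ X.basicOpen b).ι ≫ g) : f = g := by
  have hr := (hasReg_basicOpen b hb).preimage (X.homOfLE hT)
  rw [← Scheme.Hom.comp_preimage, Scheme.homOfLE_ι] at hr
  exact hr.ext pN h he

/-- Descent of a point along a faithfully flat extension, off the zero locus of a regular element. -/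
theorem exists_descend_away {O O' A : Type u} [CommRing O] [CommRing O'] [CommRing A] [Algebra O O']
    [Module.FaithfullyFlat O O'] {a : O} (ha : a ∈ nonZeroDivisors O)
    (c : A →+* Localization.Away a) (β : A →+* O')
    (h : (IsLocalization.Away.map (Localization.Away a) (Localization.Away (algebraMap O O' a))
      (algebraMap O O') a).comp c = (algebraMap O' (Localization.Away (algebraMap O O' a))).comp β) :
    ∃ α : A →+* O, (algebraMap O (Localization.Away a)).comp α = c := by
  have hinj : Function.Injective (algebraMap O (Localization.Away a)) :=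
    IsLocalization.injective _ (Submonoid.powers_le.mpr ha)
  have hrange : ∀ x, c x ∈ (algebraMap O (Localization.Away a)).range := fun x => by
    obtain ⟨n, o, ho⟩ := IsLocalization.Away.surj a (c x)
    have h1 := congrArg (IsLocalization.Away.map (Localization.Away a)
      (Localization.Away (algebraMap O O' a)) (algebraMap O O') a) ho
    rw [map_mul, map_pow, show IsLocalization.Away.map (Localization.Away a)
      (Localization.Away (algebraMap O O' a)) (algebraMap O O') a (c x) = algebraMap O'
      (Localization.Away (algebraMap O O' a)) (β x) from RingHom.congr_fun h x,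
      IsLocalization.Away.map, IsLocalization.map_eq, IsLocalization.map_eq, ← map_pow,
      ← map_mul] at h1
    have hinj' : Function.Injective (algebraMap O' (Localization.Away (algebraMap O O' a))) :=
      IsLocalization.injective _ (Submonoid.powers_le.mpr (map_mem_nonZeroDivisors_of_flat _
        (RingHom.flat_algebraMap_iff.mpr inferInstance) ha))
    have h2 : algebraMap O O' o ∈ (Ideal.span {a ^ n}).map (algebraMap O O') := by
      rw [Ideal.map_span, Set.image_singleton, Ideal.mem_span_singleton, map_pow]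
      exact ⟨β x, by rw [← hinj' h1, mul_comm]⟩
    have h3 : o ∈ Ideal.span {a ^ n} := by
      rw [← Ideal.comap_map_eq_self_of_faithfullyFlat (B := O') (Ideal.span {a ^ n})]
      exact h2
    obtain ⟨q, rfl⟩ := Ideal.mem_span_singleton.mp h3
    refine ⟨q, ?_⟩
    have hu : IsUnit (algebraMap O (Localization.Away a) a ^ n) :=
      (IsLocalization.Away.algebraMap_isUnit a).pow n
    refine hu.mul_left_cancel (Eq.trans ?_ (mul_comm (c x) _))
    rw [ho, map_mul, map_pow]
  let e := RingEquiv.ofBijective (algebraMap O (Localization.Away a)).rangeRestrict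
    ⟨fun x y hxy => hinj (congrArg Subtype.val hxy), RingHom.rangeRestrict_surjective _⟩
  exact ⟨e.symm.toRingHom.comp (c.codRestrict _ hrange), RingHom.ext fun x =>
    congrArg Subtype.val (e.apply_symm_apply ⟨c x, hrange x⟩)⟩

end Groth.Agent.Lib.NeronDescent
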