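import Groth.Agent.Lib.NeronDescent.Basic
import Groth.Agent.H26.SectionExtendDvr
import Groth.Agent.Lib.WeilExt.Local
import Mathlib.AlgebraicGeometry.PullbackCarrier

/-!
# The Néron mapping property descends along flat surjections
-/

universe u

open CategoryTheory CategoryTheory.Limits AlgebraicGeometry TopologicalSpace
open Groth.Agent.H26.SectionExtend

namespace Groth.Agent.Lib.NeronDescent

variable {S X N : Scheme.{u}} (pX : X ⟶ S) (pN : N ⟶ S)

/-- The pullback of a regular section of an affine open of the base has regular germs. -/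
theorem germ_app_mem_nonZeroDivisors [Flat pX] {W : S.Opens} (hW : IsAffineOpen W) {a : Γ(S, W)}
    (ha : a ∈ nonZeroDivisors Γ(S, W)) (x : X) (hx : x ∈ pX ⁻¹ᵁ W) :
    X.presheaf.germ (pX ⁻¹ᵁ W) x hx (pX.app W a) ∈ nonZeroDivisors (X.presheaf.stalk x) := by
  rw [← Scheme.Hom.germ_stalkMap_apply pX W x hx]
  exact map_mem_nonZeroDivisors_of_flat _ (Flat.stalkMap pX x)
    (germ_mem_nonZeroDivisors hW ha hx)

theorem basicOpen_app_le {U W : S.Opens} {a : Γ(S, W)} (haU : S.basicOpen a ≤ U) :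
    X.basicOpen (pX.app W a) ≤ pX ⁻¹ᵁ U := by
  rw [← Scheme.preimage_basicOpen]
  exact fun x hx => haU hx

/-- Morphisms from a flat scheme into a separated one are determined on a schematically dense open
of the base. -/
theorem eq_of_preimage [IsLocallyNoetherian S] [Flat pX] [IsSeparated pN] {U : S.Opens}
    (hU : CInt.IsSchematicallyDense U) {T : X.Opens} (f g : (T : Scheme.{u}) ⟶ N)
    (h : f ≫ pN = g ≫ pN)
    (he : (T.ι ⁻¹ᵁ (pX ⁻¹ᵁ U)).ι ≫ f = (T.ι ⁻¹ᵁ (pX ⁻¹ᵁ U)).ι ≫ g) : f = g := by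
  have hcov : ∀ x : (T : Scheme.{u}), ∃ (W : S.Opens) (_ : IsAffineOpen W), pX x.1 ∈ W := fun x => by
    obtain ⟨W, hW, hxW, -⟩ := exists_isAffineOpen_mem_and_subset (x := pX x.1) (U := ⊤) trivial
    exact ⟨W, hW, hxW⟩
  choose W hW hxW using hcov
  refine ((T : Scheme.{u}).openCoverOfIsOpenCover (fun x => T.ι ⁻¹ᵁ (pX ⁻¹ᵁ W x))
    (top_le_iff.mp fun x _ => Opens.mem_iSup.mpr ⟨x, hxW x⟩)).hom_ext _ _ fun x => ?_
  change (T.ι ⁻¹ᵁ (pX ⁻¹ᵁ W x)).ι ≫ f = (T.ι ⁻¹ᵁ (pX ⁻¹ᵁ W x)).ι ≫ g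
  obtain ⟨a, ha, haU⟩ := exists_nzd_section hU (hW x)
  let T' : X.Opens := T ⊓ pX ⁻¹ᵁ W x
  let l : (T' : Scheme.{u}) ⟶ (T : Scheme.{u}) := X.homOfLE inf_le_left
  suffices hl : l ≫ f = l ≫ g by
    let m : (T.ι ⁻¹ᵁ (pX ⁻¹ᵁ W x)).toScheme ⟶ (T' : Scheme.{u}) :=
      T.ι.resLE T' _ fun z hz => ⟨z.2, hz⟩
    have hm : m ≫ l = (T.ι ⁻¹ᵁ (pX ⁻¹ᵁ W x)).ι := by
      rw [← cancel_mono T.ι]
      simp [m, l, Scheme.Hom.resLE_comp_ι]
    rw [← hm, Category.assoc, Category.assoc, hl]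
  refine eq_of_basicOpen pN (pX.app (W x) a) (germ_app_mem_nonZeroDivisors pX (hW x) ha)
    inf_le_right _ _ (by rw [Category.assoc, Category.assoc, h]) ?_
  let m : (T'.ι ⁻¹ᵁ X.basicOpen (pX.app (W x) a)).toScheme ⟶ (T.ι ⁻¹ᵁ (pX ⁻¹ᵁ U)).toScheme :=
    l.resLE _ _ fun z hz => basicOpen_app_le pX haU (by
      change T.ι (l z) ∈ _
      rw [← Scheme.Hom.comp_apply, Scheme.homOfLE_ι]
      exact hz)
  have hm : m ≫ (T.ι ⁻¹ᵁ (pX ⁻¹ᵁ U)).ι = (T'.ι ⁻¹ᵁ X.basicOpen (pX.app (W x) a)).ι ≫ l :=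
    Scheme.Hom.resLE_comp_ι _ _
  rw [← reassoc_of% hm, ← reassoc_of% hm, he]

/-- Descent of a point of a separated scheme along a faithfully flat local extension, off the zero
locus of a regular element. -/
theorem exists_descend_point {O O' : CommRingCat.{u}} [IsLocalRing O] [IsLocalRing O'] (σ : O ⟶ O')
    (hσ : σ.hom.Flat) [IsLocalHom σ.hom] {a : O} (ha : a ∈ nonZeroDivisors O) [IsSeparated pN]
    (m : Spec (CommRingCat.of (Localization.Away a)) ⟶ N) (φ' : Spec O' ⟶ N) (st : Spec O ⟶ S)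
    (hS : φ' ≫ pN = Spec.map σ ≫ st)
    (hcompat : Spec.map (CommRingCat.ofHom (algebraMap O' (Localization.Away (σ a)))) ≫ φ' =
      Spec.map (CommRingCat.ofHom (IsLocalization.Away.map (Localization.Away a)
        (Localization.Away (σ a)) σ.hom a)) ≫ m) :
    ∃ φ : Spec O ⟶ N, φ ≫ pN = st ∧
      Spec.map (CommRingCat.ofHom (algebraMap O (Localization.Away a))) ≫ φ = m := by
  let _ : Algebra O O' := σ.hom.toAlgebra
  have : Module.Flat O O' := hσ
  have : IsLocalHom (algebraMap O O') := ‹IsLocalHom σ.hom›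
  have : Module.FaithfullyFlat O O' := Module.FaithfullyFlat.of_flat_of_isLocalHom
  let iA : O ⟶ CommRingCat.of (Localization.Away a) := CommRingCat.ofHom (algebraMap O _)
  let iA' : O' ⟶ CommRingCat.of (Localization.Away (σ a)) := CommRingCat.ofHom (algebraMap O' _)
  let mA : CommRingCat.of (Localization.Away a) ⟶ CommRingCat.of (Localization.Away (σ a)) :=
    CommRingCat.ofHom (IsLocalization.Away.map (Localization.Away a) (Localization.Away (σ a)) σ.hom a)
  have hsq : iA ≫ mA = σ ≫ iA' := CommRingCat.hom_ext (RingHom.ext fun o => by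
    show IsLocalization.Away.map (Localization.Away a) (Localization.Away (σ a)) σ.hom a
      (algebraMap O (Localization.Away a) o) = _
    rw [IsLocalization.Away.map, IsLocalization.map_eq]
    rfl)
  obtain ⟨_, ⟨V', hV', rfl⟩, hyV', -⟩ := N.isBasis_affineOpens.exists_subset_of_mem_open
    (Set.mem_univ (φ' (IsLocalRing.closedPoint O'))) isOpen_univ
  have : IsOpenImmersion hV'.fromSpec := hV'.isOpenImmersion_fromSpec
  have hr' : Set.range φ' ⊆ Set.range hV'.fromSpec := by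
    rw [IsAffineOpen.range_fromSpec]
    rintro _ ⟨z, rfl⟩
    exact forall_mem_of_closedPoint φ' V' hyV' z
  have hr : Set.range m ⊆ Set.range hV'.fromSpec := by
    rintro _ ⟨z, rfl⟩
    obtain ⟨w, hw⟩ := PrimeSpectrum.comap_surjective_of_faithfullyFlat (B := O')
      (Spec.map iA z : PrimeSpectrum O)
    have hwa : σ a ∉ w.asIdeal := by
      change a ∉ (PrimeSpectrum.comap (algebraMap O O') w).asIdeal
      rw [hw]
      exact fun hmem => (z : PrimeSpectrum (Localization.Away a)).isPrime.ne_top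
        (Ideal.eq_top_of_isUnit_mem _ hmem (IsLocalization.Away.algebraMap_isUnit a))
    obtain ⟨w', rfl⟩ : w ∈ Set.range (PrimeSpectrum.comap
        (algebraMap O' (Localization.Away (σ a)))) := by
      rw [PrimeSpectrum.localization_away_comap_range (Localization.Away (σ a)) (σ a)]
      exact hwa
    have hwz : Spec.map mA w' = z := by
      refine PrimeSpectrum.localization_comap_injective _ (Submonoid.powers a) ?_
      refine Eq.trans ?_ hw
      have h := congr($(congrArg Spec.map hsq) w')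
      rw [Spec.map_comp, Spec.map_comp, Scheme.Hom.comp_apply, Scheme.Hom.comp_apply] at h
      exact h
    refine hr' ⟨Spec.map iA' w', ?_⟩
    rw [← hwz, ← Scheme.Hom.comp_apply, hcompat, Scheme.Hom.comp_apply]
  let β := Spec.preimage (IsOpenImmersion.lift hV'.fromSpec φ' hr')
  let c := Spec.preimage (IsOpenImmersion.lift hV'.fromSpec m hr)
  have hβ : Spec.map β ≫ hV'.fromSpec = φ' := by rw [Spec.map_preimage, IsOpenImmersion.lift_fac]
  have hc : Spec.map c ≫ hV'.fromSpec = m := by rw [Spec.map_preimage, IsOpenImmersion.lift_fac]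
  have hcβ : c ≫ mA = β ≫ iA' := by
    apply Spec.map_injective
    rw [← cancel_mono hV'.fromSpec, Spec.map_comp, Spec.map_comp, Category.assoc, Category.assoc,
      hβ, hc, hcompat]
  obtain ⟨α, hα⟩ := exists_descend_away (O' := O') ha c.hom β.hom
    (congrArg CommRingCat.Hom.hom hcβ)
  have hφc : Spec.map iA ≫ Spec.map (CommRingCat.ofHom α) ≫ hV'.fromSpec = m := by
    rw [← Category.assoc, ← Spec.map_comp, ← hc]
    congr 2
    exact CommRingCat.hom_ext hα
  have hinjA' : Function.Injective iA'.hom :=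
    IsLocalization.injective (Localization.Away (σ a)) (Submonoid.powers_le.mpr
      (map_mem_nonZeroDivisors_of_flat _ hσ ha))
  have hαβ : CommRingCat.ofHom α ≫ σ = β := by
    refine CommRingCat.hom_ext (RingHom.ext fun r => hinjA' ?_)
    have h1 := congr($(hcβ).hom r)
    have h2 := congr($hα r)
    have h3 := congr($(hsq).hom (α r))
    show iA'.hom (σ.hom (α r)) = iA'.hom (β.hom r)
    exact (h3.symm.trans (congrArg mA.hom h2)).trans h1
  have : Flat (Spec.map σ) := by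
    rw [HasRingHomProperty.Spec_iff (P := @Flat)]
    exact hσ
  have : Surjective (Spec.map σ) :=
    ⟨PrimeSpectrum.comap_surjective_of_faithfullyFlat (A := O) (B := O')⟩
  refine ⟨Spec.map (CommRingCat.ofHom α) ≫ hV'.fromSpec, ?_, hφc⟩
  rw [← cancel_epi (Spec.map σ), Category.assoc, ← Category.assoc, ← Spec.map_comp, hαβ,
    ← Category.assoc, hβ, hS]

/-- Localizations away from elements with regular image embed. -/
theorem exists_injective_away_map {A Ab B : Type u} [CommRing A] [CommRing Ab] [CommRing B]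
    [Algebra A Ab] (f : A →+* B) (hf : Function.Injective f) (b : A) [IsLocalization.Away b Ab]
    (hb : f b ∈ nonZeroDivisors B) :
    ∃ ρ : Ab →+* Localization.Away (f b),
      ρ.comp (algebraMap A Ab) = (algebraMap B (Localization.Away (f b))).comp f ∧
        Function.Injective ρ := by
  let g : A →+* Localization.Away (f b) := (algebraMap B (Localization.Away (f b))).comp f
  have hu : IsUnit (g b) := IsLocalization.Away.algebraMap_isUnit (f b)
  let ρ : Ab →+* Localization.Away (f b) :=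
    IsLocalization.Away.lift (R := A) (S := Ab) (P := Localization.Away (f b)) (g := g) b hu
  have hρ : ∀ r, ρ (algebraMap A Ab r) = g r := fun r =>
    IsLocalization.Away.lift_eq (R := A) (S := Ab) (P := Localization.Away (f b)) (g := g) b hu r
  refine ⟨ρ, RingHom.ext hρ, ?_⟩
  rw [injective_iff_map_eq_zero]
  intro z hz
  obtain ⟨n, r, hr⟩ := IsLocalization.Away.surj b z
  have h1 := congrArg ρ hr
  rw [map_mul, hz, zero_mul, hρ] at h1
  have h2 : f r = 0 := IsLocalization.injective (Localization.Away (f b))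
    (Submonoid.powers_le.mpr hb) (h1.symm.trans (map_zero _).symm)
  have hr0 : r = 0 := hf (h2.trans (map_zero f).symm)
  rw [hr0, map_zero] at hr
  exact ((IsLocalization.Away.algebraMap_isUnit b).pow n).mul_left_eq_zero.mp hr

/-- On an affine open on which functions are detected at a point, morphisms off the zero locus of a
regular element are detected near the point. -/
theorem eq_of_germ_injective [IsSeparated pN] {V : X.Opens} (hV : IsAffineOpen V) {x : X}
    (hxV : x ∈ V) (hinj : Function.Injective (X.presheaf.germ V x hxV)) (bV : Γ(X, V))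
    (ha : X.presheaf.germ V x hxV bV ∈ nonZeroDivisors (X.presheaf.stalk x))
    (f g : (X.basicOpen bV : Scheme.{u}) ⟶ N) (hfg : f ≫ pN = g ≫ pN)
    (h : ∀ d : Spec (CommRingCat.of (Localization.Away (X.presheaf.germ V x hxV bV))) ⟶
        (X.basicOpen bV : Scheme.{u}),
      d ≫ (X.basicOpen bV).ι = Spec.map (CommRingCat.ofHom (algebraMap (X.presheaf.stalk x) _)) ≫
        X.fromSpecStalk x → d ≫ f = d ≫ g) :
    f = g := by
  let D : X.Opens := X.basicOpen bV
  have hDa : IsAffineOpen D := hV.basicOpen bV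
  have hlocD := hV.isLocalization_basicOpen bV
  let gm := X.presheaf.germ V x hxV
  let iA : X.presheaf.stalk x ⟶ CommRingCat.of (Localization.Away (gm bV)) :=
    CommRingCat.ofHom (algebraMap (X.presheaf.stalk x) (Localization.Away (gm bV)))
  let rV : Γ(X, V) ⟶ Γ(X, D) := X.presheaf.map (homOfLE (X.basicOpen_le bV)).op
  obtain ⟨ρ₀, hρ₀, hρinj₀⟩ := exists_injective_away_map (A := Γ(X, V)) (Ab := Γ(X, D))
    (B := X.presheaf.stalk x) gm.hom hinj bV ha
  let ρ : Γ(X, D) ⟶ CommRingCat.of (Localization.Away (gm bV)) := CommRingCat.ofHom ρ₀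
  have hρ : rV ≫ ρ = gm ≫ iA := CommRingCat.hom_ext hρ₀
  have hρinj : Function.Injective ρ.hom := hρinj₀
  have := Groth.Agent.Lib.SchDense.Basic.std_specMap_of_injective ρ hρinj
  let d : Spec (CommRingCat.of (Localization.Away (gm bV))) ⟶ (D : Scheme.{u}) :=
    Spec.map ρ ≫ hDa.isoSpec.inv
  have : IsSchemeTheoreticallyDominant d := inferInstance
  refine Groth.Agent.Lib.SchDense.Basic.ext_of_std pN hfg d (h d ?_)
  rw [Category.assoc, IsAffineOpen.isoSpec_inv_ι,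
    ← hV.map_fromSpec hDa (homOfLE (X.basicOpen_le bV)).op, ← Category.assoc, ← Spec.map_comp]
  change Spec.map (rV ≫ ρ) ≫ _ = _
  rw [hρ, Spec.map_comp, Category.assoc]
  congr 1
  exact hV.fromSpecStalk_eq_fromSpecStalk hxV

/-- A morphism off the zero locus of a regular section which after a flat base change extends,
extends near each point of the image. -/
theorem exists_local_descent [IsLocallyNoetherian X] [IsSeparated pN] [LocallyOfFiniteType pN]
    {P : Scheme.{u}} (π : P ⟶ X) [Flat π] {W : X.Opens} (b : Γ(X, W))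
    (hb : ∀ x hx, X.presheaf.germ W x hx b ∈ nonZeroDivisors (X.presheaf.stalk x))
    (k : (X.basicOpen b : Scheme.{u}) ⟶ N) (hk : k ≫ pN = (X.basicOpen b).ι ≫ pX)
    (f' : P ⟶ N) (hf : f' ≫ pN = π ≫ pX)
    (hfk : (π ⁻¹ᵁ X.basicOpen b).ι ≫ f' = π ∣_ X.basicOpen b ≫ k)
    (y : P) (hy : π y ∈ W) :
    ∃ (V : X.Opens) (g : (V : Scheme.{u}) ⟶ N), π y ∈ V ∧ V ≤ W ∧ g ≫ pN = V.ι ≫ pX ∧
      X.homOfLE (inf_le_left : V ⊓ X.basicOpen b ≤ V) ≫ g =
        X.homOfLE (inf_le_right : V ⊓ X.basicOpen b ≤ X.basicOpen b) ≫ k := by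
  let iA : X.presheaf.stalk (π y) ⟶
      CommRingCat.of (Localization.Away (X.presheaf.germ W (π y) hy b)) :=
    CommRingCat.ofHom (algebraMap (X.presheaf.stalk (π y)) _)
  have hin : ∀ z : Spec (CommRingCat.of (Localization.Away (X.presheaf.germ W (π y) hy b))),
      X.fromSpecStalk (π y) (Spec.map iA z) ∈ X.basicOpen b := by
    intro z
    set x := X.fromSpecStalk (π y) (Spec.map iA z) with hx
    have hspec : x ⤳ π y := by
      have : x ∈ Set.range (X.fromSpecStalk (π y)) := ⟨_, rfl⟩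
      rwa [Scheme.range_fromSpecStalk] at this
    have hxW : x ∈ W := hspec.mem_open W.isOpen hy
    rw [X.mem_basicOpen b x hxW, ← TopCat.Presheaf.germ_stalkSpecializes_apply X.presheaf hy hspec]
    have hz : Spec.map (X.presheaf.stalkSpecializes hspec) (IsLocalRing.closedPoint _) =
        Spec.map iA z := (X.fromSpecStalk (π y)).isEmbedding.injective (by
      rw [← Scheme.Hom.comp_apply, Scheme.SpecMap_stalkSpecializes_fromSpecStalk,
        Scheme.fromSpecStalk_closedPoint])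
    by_contra hu
    have hmem : X.presheaf.germ W (π y) hy b ∈
        (Spec.map iA z : PrimeSpectrum (X.presheaf.stalk (π y))).asIdeal := by
      rw [← hz]
      exact (IsLocalRing.mem_maximalIdeal _).mpr hu
    exact (z : PrimeSpectrum (Localization.Away _)).isPrime.ne_top
      (Ideal.eq_top_of_isUnit_mem _ hmem (IsLocalization.Away.algebraMap_isUnit _))
  obtain ⟨l, hl⟩ := exists_lift_opens (Spec.map iA ≫ X.fromSpecStalk (π y)) (X.basicOpen b)
    fun z => by rw [Scheme.Hom.comp_apply]; exact hin z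
  have hπy : P.fromSpecStalk y ≫ π = Spec.map (π.stalkMap y) ≫ X.fromSpecStalk (π y) :=
    (Scheme.SpecMap_stalkMap_fromSpecStalk π).symm
  let a := X.presheaf.germ W (π y) hy b
  let iA' : P.presheaf.stalk y ⟶ CommRingCat.of (Localization.Away (π.stalkMap y a)) :=
    CommRingCat.ofHom (algebraMap (P.presheaf.stalk y) _)
  let mA : CommRingCat.of (Localization.Away a) ⟶ CommRingCat.of (Localization.Away (π.stalkMap y a)) :=
    CommRingCat.ofHom (IsLocalization.Away.map (Localization.Away a)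
      (Localization.Away (π.stalkMap y a)) (π.stalkMap y).hom a)
  have hsq : iA ≫ mA = π.stalkMap y ≫ iA' := CommRingCat.hom_ext (RingHom.ext fun o => by
    show IsLocalization.Away.map (Localization.Away a) (Localization.Away (π.stalkMap y a))
      (π.stalkMap y).hom a (algebraMap (X.presheaf.stalk (π y)) (Localization.Away a) o) = _
    rw [IsLocalization.Away.map, IsLocalization.map_eq]
    rfl)
  have hcompat : Spec.map iA' ≫ P.fromSpecStalk y ≫ f' = Spec.map mA ≫ l ≫ k := by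
    obtain ⟨l', hl'⟩ := exists_lift_opens (Spec.map iA' ≫ P.fromSpecStalk y) (π ⁻¹ᵁ X.basicOpen b)
      fun z => by
        change π ((Spec.map iA' ≫ P.fromSpecStalk y) z) ∈ X.basicOpen b
        rw [← Scheme.Hom.comp_apply, Category.assoc, hπy, ← Category.assoc, ← Spec.map_comp, ← hsq,
          Spec.map_comp, Category.assoc, Scheme.Hom.comp_apply, Scheme.Hom.comp_apply]
        exact hin _
    rw [← Category.assoc, ← hl', Category.assoc, hfk, ← Category.assoc, ← Category.assoc]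
    congr 1
    rw [← cancel_mono (X.basicOpen b).ι, Category.assoc, morphismRestrict_ι, reassoc_of% hl',
      hπy, Category.assoc, hl, ← Category.assoc, ← Spec.map_comp, ← hsq, Spec.map_comp,
      Category.assoc]
  obtain ⟨φ, hφS, hφc⟩ := exists_descend_point pN (π.stalkMap y) (Flat.stalkMap π y)
    (hb _ hy) (l ≫ k) (P.fromSpecStalk y ≫ f') (X.fromSpecStalk (π y) ≫ pX)
    (by rw [Category.assoc, hf, reassoc_of% hπy]) hcompat
  obtain ⟨U', hxU', g', hg', hg'S⟩ := spread_out_of_isGermInjective' pX pN φ hφS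
  obtain ⟨V, hxV, hV, hVle, hVinj⟩ := X.exists_le_and_germ_injective (π y) (U' ⊓ W) ⟨hxU', hy⟩
  let gV : (V : Scheme.{u}) ⟶ N := X.homOfLE (hVle.trans inf_le_left) ≫ g'
  have hgVS : gV ≫ pN = V.ι ≫ pX := by rw [Category.assoc, hg'S, Scheme.homOfLE_ι_assoc]
  refine ⟨V, gV, hxV, hVle.trans inf_le_right, hgVS, ?_⟩
  let bV : Γ(X, V) := X.presheaf.map (homOfLE (hVle.trans inf_le_right : V ≤ W)).op b
  have hD : V ⊓ X.basicOpen b = X.basicOpen bV := (X.basicOpen_res b _).symm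
  have hbVa : X.presheaf.germ V (π y) hxV bV = a := TopCat.Presheaf.germ_res_apply _ _ _ _ _
  have hDV : X.basicOpen bV ≤ V := X.basicOpen_le bV
  have hDb : X.basicOpen bV ≤ X.basicOpen b := hD.ge.trans inf_le_right
  have key : X.homOfLE hDV ≫ gV = X.homOfLE hDb ≫ k := by
    refine eq_of_germ_injective pN hV hxV hVinj bV (hbVa ▸ hb _ hy) _ _
      (by simp only [Category.assoc, gV, hg'S, hk, Scheme.homOfLE_ι_assoc]) ?_
    rw [hbVa]
    intro d hd
    replace hd : d ≫ (X.basicOpen bV).ι = Spec.map iA ≫ X.fromSpecStalk (π y) := hd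
    have e1 : d ≫ X.homOfLE (hDV.trans (hVle.trans inf_le_left)) =
        Spec.map iA ≫ U'.fromSpecStalkOfMem (π y) hxU' := by
      rw [← cancel_mono U'.ι, Category.assoc, Scheme.homOfLE_ι, hd, Category.assoc,
        Scheme.Opens.fromSpecStalkOfMem_ι]
    have e2 : d ≫ X.homOfLE hDb = l := by
      rw [← cancel_mono (X.basicOpen b).ι, Category.assoc, Scheme.homOfLE_ι, hd, hl]
    rw [reassoc_of% e2, ← hφc, hg']
    refine Eq.trans ?_ ((reassoc_of% e1) g')
    simp [gV]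
  have hD' : V ⊓ X.basicOpen b ≤ X.basicOpen bV := hD.le
  rw [← Scheme.homOfLE_homOfLE_assoc _ hD' hDV, key, Scheme.homOfLE_homOfLE_assoc]

/-- The Néron mapping property descends along flat surjections. -/
theorem exists_descent [IsLocallyNoetherian S] [Flat pX] [IsLocallyNoetherian X] [IsSeparated pN]
    [LocallyOfFiniteType pN] {P : Scheme.{u}} (π : P ⟶ X) [Flat π] [Surjective π] {U : S.Opens}
    (hU : CInt.IsSchematicallyDense U) (k : ((pX ⁻¹ᵁ U : X.Opens) : Scheme.{u}) ⟶ N)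
    (hk : k ≫ pN = (pX ⁻¹ᵁ U).ι ≫ pX) (f' : P ⟶ N) (hf : f' ≫ pN = π ≫ pX)
    (hfk : (π ⁻¹ᵁ (pX ⁻¹ᵁ U)).ι ≫ f' = π ∣_ (pX ⁻¹ᵁ U) ≫ k) :
    ∃ g : X ⟶ N, g ≫ pN = pX ∧ (pX ⁻¹ᵁ U).ι ≫ g = k := by
  have hloc : ∀ x : X, ∃ (V : X.Opens) (g : (V : Scheme.{u}) ⟶ N), x ∈ V ∧ g ≫ pN = V.ι ≫ pX ∧
      X.homOfLE (inf_le_left : V ⊓ pX ⁻¹ᵁ U ≤ V) ≫ g =
        X.homOfLE (inf_le_right : V ⊓ pX ⁻¹ᵁ U ≤ pX ⁻¹ᵁ U) ≫ k := by
    intro x
    obtain ⟨y, rfl⟩ := π.surjective x
    obtain ⟨W₀, hW₀, hyW, -⟩ := exists_isAffineOpen_mem_and_subset (x := pX (π y)) (U := ⊤) trivial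
    obtain ⟨a, ha, haU⟩ := exists_nzd_section hU hW₀
    let b := pX.app W₀ a
    have hb := germ_app_mem_nonZeroDivisors pX hW₀ ha
    have hbU : X.basicOpen b ≤ pX ⁻¹ᵁ U := basicOpen_app_le pX haU
    obtain ⟨V, g, hxV, hVW, hgS, hg⟩ := exists_local_descent pX pN π b hb
      (X.homOfLE hbU ≫ k) (by rw [Category.assoc, hk, Scheme.homOfLE_ι_assoc]) f' hf (by
        have e1 : π ∣_ X.basicOpen b ≫ X.homOfLE hbU =
            P.homOfLE (Scheme.Hom.preimage_mono π hbU) ≫ π ∣_ (pX ⁻¹ᵁ U) := by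
          rw [← cancel_mono (pX ⁻¹ᵁ U).ι]
          simp [morphismRestrict_ι]
        rw [reassoc_of% e1, ← hfk, Scheme.homOfLE_ι_assoc]) y hyW
    refine ⟨V, g, hxV, hgS, eq_of_basicOpen pN b hb (inf_le_left.trans hVW) _ _ ?_ ?_⟩
    · rw [Category.assoc, Category.assoc, hgS, hk, Scheme.homOfLE_ι_assoc, Scheme.homOfLE_ι_assoc]
    let m : ((V ⊓ pX ⁻¹ᵁ U).ι ⁻¹ᵁ X.basicOpen b).toScheme ⟶ ((V ⊓ X.basicOpen b : X.Opens) : Scheme.{u}) :=
      (V ⊓ pX ⁻¹ᵁ U).ι.resLE _ _ fun z hz => ⟨z.2.1, hz⟩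
    have e1 : m ≫ X.homOfLE (inf_le_left : V ⊓ X.basicOpen b ≤ V) =
        ((V ⊓ pX ⁻¹ᵁ U).ι ⁻¹ᵁ X.basicOpen b).ι ≫ X.homOfLE inf_le_left := by
      rw [← cancel_mono V.ι]
      simp [m, Scheme.Hom.resLE_comp_ι]
    have e2 : m ≫ X.homOfLE (inf_le_right : V ⊓ X.basicOpen b ≤ _) ≫ X.homOfLE hbU =
        ((V ⊓ pX ⁻¹ᵁ U).ι ⁻¹ᵁ X.basicOpen b).ι ≫ X.homOfLE inf_le_right := by
      rw [← cancel_mono (pX ⁻¹ᵁ U).ι]
      simp [m, Scheme.Hom.resLE_comp_ι]
    rw [← reassoc_of% e1, hg, reassoc_of% e2]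
  choose V g hxV hgS hgk using hloc
  obtain ⟨g', hg'⟩ := Groth.Agent.H26.SectionExtend.exists_glue V g fun i j => by
    refine eq_of_preimage pX pN hU _ _ ?_ ?_
    · rw [Category.assoc, Category.assoc, hgS, hgS, Scheme.homOfLE_ι_assoc, Scheme.homOfLE_ι_assoc]
    · have main : ∀ (i : X) (T : X.Opens) (hle : T ≤ V i),
          (T.ι ⁻¹ᵁ (pX ⁻¹ᵁ U)).ι ≫ X.homOfLE hle ≫ g i = T.ι.resLE _ _ le_rfl ≫ k := by
        intro i T hle
        let m : (T.ι ⁻¹ᵁ (pX ⁻¹ᵁ U)).toScheme ⟶ ((V i ⊓ pX ⁻¹ᵁ U : X.Opens) : Scheme.{u}) :=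
          T.ι.resLE _ _ fun z hz => ⟨hle z.2, hz⟩
        have e1 : m ≫ X.homOfLE (inf_le_left : V i ⊓ pX ⁻¹ᵁ U ≤ V i) =
            (T.ι ⁻¹ᵁ (pX ⁻¹ᵁ U)).ι ≫ X.homOfLE hle := by
          rw [← cancel_mono (V i).ι]
          simp [m, Scheme.Hom.resLE_comp_ι]
        have e2 : m ≫ X.homOfLE (inf_le_right : V i ⊓ pX ⁻¹ᵁ U ≤ pX ⁻¹ᵁ U) =
            T.ι.resLE _ _ le_rfl := by
          rw [← cancel_mono (pX ⁻¹ᵁ U).ι]
          simp [m, Scheme.Hom.resLE_comp_ι]
        rw [← reassoc_of% e1, hgk, reassoc_of% e2]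
      rw [main i _ inf_le_left, main j _ inf_le_right]
  have htop : (⨆ i, V i : X.Opens) = ⊤ :=
    top_le_iff.mp fun x _ => Opens.mem_iSup.mpr ⟨x, hxV x⟩
  let g₀ : X ⟶ N := X.topIso.inv ≫ X.homOfLE htop.ge ≫ g'
  have hres : ∀ i, (V i).ι ≫ g₀ = g i := fun i => by
    have e : (V i).ι ≫ X.topIso.inv ≫ X.homOfLE htop.ge = X.homOfLE (le_iSup V i) := by
      rw [← cancel_mono (⨆ i, V i : X.Opens).ι]
      simp
    rw [← hg' i, ← e]
    simp [g₀]
  refine ⟨g₀, (X.openCoverOfIsOpenCover V htop).hom_ext _ _ fun i => ?_, ?_⟩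
  · change (V i).ι ≫ g₀ ≫ pN = (V i).ι ≫ pX
    rw [← Category.assoc, hres, hgS]
  · refine ((pX ⁻¹ᵁ U : X.Opens).toScheme.openCoverOfIsOpenCover
      (fun i => (pX ⁻¹ᵁ U).ι ⁻¹ᵁ V i)
      (top_le_iff.mp fun x _ => Opens.mem_iSup.mpr ⟨x.1, hxV x.1⟩)).hom_ext _ _ fun i => ?_
    change ((pX ⁻¹ᵁ U).ι ⁻¹ᵁ V i).ι ≫ (pX ⁻¹ᵁ U).ι ≫ g₀ = ((pX ⁻¹ᵁ U).ι ⁻¹ᵁ V i).ι ≫ k
    let m : ((pX ⁻¹ᵁ U).ι ⁻¹ᵁ V i).toScheme ⟶ ((V i ⊓ pX ⁻¹ᵁ U : X.Opens) : Scheme.{u}) :=
      (pX ⁻¹ᵁ U).ι.resLE _ _ fun z hz => ⟨hz, z.2⟩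
    have e1 : m ≫ X.homOfLE (inf_le_left : V i ⊓ pX ⁻¹ᵁ U ≤ V i) ≫ (V i).ι =
        ((pX ⁻¹ᵁ U).ι ⁻¹ᵁ V i).ι ≫ (pX ⁻¹ᵁ U).ι := by
      simp [m, Scheme.Hom.resLE_comp_ι]
    have e2 : m ≫ X.homOfLE (inf_le_right : V i ⊓ pX ⁻¹ᵁ U ≤ pX ⁻¹ᵁ U) =
        ((pX ⁻¹ᵁ U).ι ⁻¹ᵁ V i).ι := by
      rw [← cancel_mono (pX ⁻¹ᵁ U).ι]
      simp [m, Scheme.Hom.resLE_comp_ι]
    rw [← reassoc_of% e1, hres, hgk, reassoc_of% e2]

end Groth.Agent.Lib.NeronDescent
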